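import Cfsg.Agent.ThompsonAuto.Core
import Cfsg.Agent.Kinf.AutPGroup
import Cfsg.Agent.Transfer.PResidual

/-!
Thompson's normal p-complement criterion by `J(S)` alone, for `p ≥ 5`.
-/

set_option autoImplicit false
set_option linter.style.haveILetI false

namespace CfsgLib.ThompsonAuto

open Subgroup CfsgLib.ZJ

universe u

variable {p : ℕ} [Fact p.Prime]

/-- The normalizers of `J` form a local system. -/
theorem localSystem_thompsonA :
    LocalSystem p (fun (_ : Unit) (G : Type u) _ U => Cfsg.thompsonSubgroupAOf U)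
      (fun (_ : Unit) (G : Type u) _ U =>
        normalizer ((Cfsg.thompsonSubgroupAOf U : Subgroup G) : Set G)) where
  le _ := (jkind_abelian (p := p)).localSystem.le true
  ne_bot _ := (jkind_abelian (p := p)).localSystem.ne_bot true
  normalizer_le _ := (jkind_abelian (p := p)).localSystem.normalizer_le true
  le_normalizer _ := (jkind_abelian (p := p)).localSystem.le_normalizer true
  self_le _ := (jkind_abelian (p := p)).localSystem.self_le true
  map _ := (jkind_abelian (p := p)).localSystem.map true
  quot _ := (jkind_abelian (p := p)).localSystem.quot true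

/-- For `p ≥ 5`: if `N(J(S))` has a normal p-complement then so has the group. -/
theorem hasNormalPComplement (hp : 5 ≤ p) (G : Type u) [Group G] [Finite G] (S : Sylow p G)
    (hN : Cfsg.HasNormalPComplement p
      ↥(normalizer ((Cfsg.thompsonSubgroupAOf (S : Subgroup G) : Subgroup G) : Set G))) :
    Cfsg.HasNormalPComplement p G := by
  refine (localSystem_thompsonA (p := p)).hasNormalPComplement (fun _ _ => True)
    (fun _ _ _ _ _ => trivial) (fun _ _ _ _ _ _ => trivial)
    (fun G _ _ P _ hX hC hmax L hL hab hLn hLm => ?_) G S trivial fun _ => hN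
  set H := Cfsg.pCore p G
  haveI : H.Normal := Solvable.pCore_normal p
  haveI := hLn
  have hHP : H ≤ (P : Subgroup G) := pCore_le_sylow P
  have hall : ∀ A ∈ fam (fun A : Subgroup G => IsMulCommutative A) (P : Subgroup G), A ≤ H :=
    le_pCore_of_critical hp P hC hmax L hL hab hLm
  have hQ := (jkind_abelian (p := p)).adm G
  obtain ⟨A1, hA1⟩ := exists_fam hQ (P : Subgroup G)
  have heq : fam (fun A : Subgroup G => IsMulCommutative A) (P : Subgroup G) =
      fam (fun A : Subgroup G => IsMulCommutative A) H := by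
    ext A
    refine ⟨fun hA => ⟨hA.1, hall A hA, fun B hB hBH => hA.2.2 B hB (hBH.trans hHP)⟩,
      fun hA => ⟨hA.1, hA.2.1.trans hHP, fun B hB hBP => ?_⟩⟩
    exact (hA1.2.2 B hB hBP).trans (hA.2.2 A1 hA1.1 (hall A1 hA1))
  have htop : normalizer ((Cfsg.thompsonSubgroupAOf (P : Subgroup G) : Subgroup G) : Set G) = ⊤ := by
    rw [thompsonSubgroupAOf_eq_fam, heq, ← thompsonSubgroupAOf_eq_fam, eq_top_iff]
    exact le_trans (by rw [normalizer_eq_top (H := H)]) ((jkind_abelian (p := p)).normalizer_le H)
  have h := hX ()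
  rw [htop] at h
  exact hnpc_of_surjective (topEquiv : (⊤ : Subgroup G) ≃* G).toMonoidHom (MulEquiv.surjective _) h

/-- The elements of a p-subgroup centralizing `J` lie in `J`. -/
theorem inf_centralizer_le {G : Type u} [Group G] [Finite G] (U : Subgroup G) :
    U ⊓ centralizer ((Cfsg.thompsonSubgroupAOf U : Subgroup G) : Set G) ≤
      Cfsg.thompsonSubgroupAOf U := by
  rintro x ⟨hx, hxc⟩
  rw [thompsonSubgroupAOf_eq_fam] at hxc ⊢
  obtain ⟨A, hA⟩ := exists_fam (admissible_abelian (G := G)) U
  have hcomm : ∀ a ∈ A, a * x = x * a := fun a ha =>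
    mem_centralizer_iff.mp hxc a (le_sSup hA ha)
  have hB : IsMulCommutative ↥(closure (insert x (A : Set G))) := by
    refine Subgroup.isMulCommutative_closure ?_
    rintro a (rfl | ha) b (rfl | hb)
    · rfl
    · exact (hcomm b hb).symm
    · exact hcomm a ha
    · exact congrArg Subtype.val (hA.1.is_comm.comm ⟨a, ha⟩ ⟨b, hb⟩)
  have hle : A ≤ closure (insert x (A : Set G)) := fun a ha => subset_closure (Or.inr ha)
  have heq := Solvable.eq_of_le_of_card_le hle (hA.2.2 _ hB
    ((closure_le _).mpr (Set.insert_subset hx hA.2.1)))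
  exact le_sSup hA (heq.ge (subset_closure (Set.mem_insert x _)))

/-- The criterion by the automizer of `J(S)`. -/
theorem hasNormalPComplement_iff (hp : 5 ≤ p) {G : Type u} [Group G] [Finite G] (S : Sylow p G) :
    Cfsg.HasNormalPComplement p G ↔
      ∀ g ∈ normalizer (Cfsg.thompsonSubgroupAOf (S : Subgroup G) : Set G), (orderOf g).Coprime p →
        g ∈ centralizer (Cfsg.thompsonSubgroupAOf (S : Subgroup G) : Set G) := by
  set J := Cfsg.thompsonSubgroupAOf (S : Subgroup G) with hJ
  have hJS : J ≤ (S : Subgroup G) := (jkind_abelian (p := p)).le _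
  constructor
  · intro h g hg hgp
    rw [PResidual.hasNormalPComplement_iff] at h
    have hgR : g ∈ Cfsg.pResidual p G := PResidual.mem_pResidual p hgp
    refine mem_centralizer_iff.mpr fun j hj => ?_
    have h1 : g * j * g⁻¹ * j⁻¹ ∈ J := mul_mem ((mem_normalizer_iff.mp hg j).mp hj) (inv_mem hj)
    have h2 : g * j * g⁻¹ * j⁻¹ ∈ Cfsg.pResidual p G := by
      rw [show g * j * g⁻¹ * j⁻¹ = g * (j * g⁻¹ * j⁻¹) by group]
      exact mul_mem hgR (Normal.conj_mem inferInstance _ (inv_mem hgR) j)
    have h3 : g * j * g⁻¹ * j⁻¹ ∈ (⊥ : Subgroup G) :=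
      ZJ.isPGroup_inf_coprime (S.2.to_le hJS) h ▸ ⟨h1, h2⟩
    rw [mem_bot, mul_inv_eq_one, mul_inv_eq_iff_eq_mul] at h3
    exact h3.symm
  · intro h
    refine hasNormalPComplement hp G S (Kinf.hasNormalPComplement_normalizer S J
      (le_normalizer.trans ((jkind_abelian (p := p)).normalizer_le _)) (inf_centralizer_le _) h)

end CfsgLib.ThompsonAuto
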