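import Mathlib.Algebra.CharP.Lemmas
import Mathlib.Algebra.Ring.Subring.Basic
import Mathlib.FieldTheory.Finite.Basic
import Mathlib.GroupTheory.PGroup
import Mathlib.Algebra.Group.Subgroup.Finite
import Mathlib.RingTheory.Nilpotent.Defs
import Mathlib.Tactic.NormNum.Prime

/-!
Automorphisms of `p`-power order of a finite reduced commutative ring of characteristic `p ≥ 5`,
as they are used for Thompson's theorem on the automizer of `J(S)`.
-/

set_option autoImplicit false
set_option linter.unusedSectionVars false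

namespace CfsgLib.ThompsonAuto

variable {p : ℕ} [Fact p.Prime]

theorem natCast_isUnit_of_lt {C : Type*} [CommRing C] [CharP C p] {n : ℕ} (h0 : n ≠ 0)
    (h : ∀ q : ℕ, q.Prime → q ∣ n → q < p) : IsUnit (n : C) := by
  have hn : (n : ZMod p) ≠ 0 := fun hd =>
    (h p Fact.out ((ZMod.natCast_eq_zero_iff n p).mp hd)).false
  simpa using hn.isUnit.map (ZMod.castHom (dvd_refl p) C)

section Fixed

variable {B V : Type*} [CommGroup B] [AddCommGroup V] [Finite V]

theorem sub_one_pow_eq_zero (hV : ∀ v : V, p • v = 0) (s : AddMonoid.End V) {n : ℕ}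
    (hs : s ^ p ^ n = 1) : (s - 1) ^ p ^ n = 0 := by
  have hp0 : (p : AddMonoid.End V) = 0 := AddMonoidHom.ext fun v => hV v
  have hne : p ^ n ≠ 0 := pow_ne_zero _ (Fact.out : p.Prime).ne_zero
  obtain ⟨r, hr⟩ := (Commute.one_right (s - 1)).exists_add_pow_prime_pow_eq
    (Fact.out : p.Prime) n
  rw [sub_add_cancel, hs, one_pow, hp0, zero_mul, zero_mul, zero_mul, add_zero] at hr
  exact add_eq_right.mp hr.symm

/-- A commuting `p`-group of automorphisms of an elementary abelian `p`-group has, outside every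
invariant subgroup `F` inside an invariant subgroup `W`, an element fixed modulo `F`. -/
theorem exists_fixed_mem (hB : IsPGroup p B) (hV : ∀ v : V, p • v = 0)
    (τ : B →* AddMonoid.End V) (W F : AddSubgroup V) (hW : ∀ b, ∀ w ∈ W, τ b w ∈ W)
    (hWF : ¬ W ≤ F) : ∃ w ∈ W, w ∉ F ∧ ∀ b, τ b w - w ∈ F := by
  haveI : Finite (AddSubgroup V) := Finite.of_injective _ SetLike.coe_injective
  obtain ⟨W', ⟨hW'W, hW', hW'F⟩, hmin⟩ := Set.Finite.exists_minimal
    (Set.toFinite {X : AddSubgroup V | X ≤ W ∧ (∀ b, ∀ w ∈ X, τ b w ∈ X) ∧ ¬ X ≤ F})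
    ⟨W, le_rfl, hW, hWF⟩
  obtain ⟨w, hw, hwF⟩ := SetLike.not_le_iff_exists.mp hW'F
  refine ⟨w, hW'W hw, hwF, fun b => ?_⟩
  set d : AddMonoid.End V := τ b - 1 with hd
  set D : AddSubgroup V := AddSubgroup.map (d : V →+ V) W' with hD
  have hDW : D ≤ W' := by
    rintro _ ⟨x, hx, rfl⟩
    exact W'.sub_mem (hW' b x hx) hx
  have hDinv : ∀ c, ∀ x ∈ D, τ c x ∈ D := by
    rintro c _ ⟨x, hx, rfl⟩
    refine ⟨τ c x, hW' c x hx, ?_⟩
    show τ b (τ c x) - τ c x = τ c (τ b x - x)
    rw [map_sub]
    show (τ b * τ c) x - τ c x = (τ c * τ b) x - τ c x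
    rw [← map_mul, ← map_mul, mul_comm]
  by_cases hDF : D ≤ F
  · exact hDF ⟨w, hw, rfl⟩
  · exfalso
    have heq : W' ≤ D := hmin ⟨hDW.trans hW'W, hDinv, hDF⟩ hDW
    obtain ⟨n, hn⟩ := hB b
    have hn' : τ b ^ p ^ n = 1 := by rw [← map_pow, hn, map_one]
    have hall : ∀ k : ℕ, ∀ x ∈ W', ∃ y ∈ W', x = (d ^ k) y := by
      intro k
      induction k with
      | zero => exact fun x hx => ⟨x, hx, rfl⟩
      | succ k ih =>
        intro x hx
        obtain ⟨y, hy, rfl⟩ := ih x hx
        obtain ⟨z, hz, rfl⟩ := heq hy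
        refine ⟨z, hz, ?_⟩
        rw [pow_succ]
        rfl
    obtain ⟨y, -, hy⟩ := hall (p ^ n) w hw
    rw [hd, sub_one_pow_eq_zero hV _ hn'] at hy
    exact hwF (hy ▸ F.zero_mem)

end Fixed

section Ring

variable {B C : Type*} [CommGroup B] [CommRing C] [CharP C p] [IsReduced C]

theorem eq_zero_of_mul_self {x : C} (h : x * x = 0) : x = 0 :=
  IsReduced.eq_zero x ⟨2, by rw [sq, h]⟩

/-- An endomorphism whose difference map has vanishing cube on a set closed under squares is the
identity there. -/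
theorem fixed_of_delta_cube (hp : 5 ≤ p) (s : C →+* C) (R : Set C)
    (hsq : ∀ x ∈ R, x * x ∈ R)
    (h3 : ∀ x ∈ R, s (s (s x)) - 3 * s (s x) + 3 * s x - x = 0) : ∀ x ∈ R, s x = x := by
  have h2u : IsUnit ((2 : ℕ) : C) := natCast_isUnit_of_lt (p := p) two_ne_zero fun q _ hd => by
    have := Nat.le_of_dvd two_pos hd
    omega
  have h6u : IsUnit ((6 : ℕ) : C) := natCast_isUnit_of_lt (p := p) (by norm_num) fun q hq hd => by
    have h6 : q ≤ 6 := Nat.le_of_dvd (by norm_num) hd
    rcases (by omega : q < p ∨ p ≤ q) with h | h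
    · exact h
    · interval_cases q <;> norm_num at * <;> omega
  -- second differences vanish
  have h2 : ∀ x ∈ R, s (s x) - 2 * s x + x = 0 := by
    intro x hx
    obtain ⟨d1, hd1⟩ : ∃ d, s x = x + d := ⟨s x - x, by ring⟩
    obtain ⟨d2, hd2⟩ : ∃ d, s d1 = d1 + d := ⟨s d1 - d1, by ring⟩
    have e3 := h3 x hx
    rw [hd1, map_add, hd1, hd2, map_add, map_add, map_add, hd1, hd2] at e3
    have hd3 : s d2 = d2 := by linear_combination e3
    have e := h3 _ (hsq x hx)
    simp only [map_mul, map_add, hd1, hd2, hd3] at e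
    have e' : (6 : C) * (d1 * d2 + d2 * d2) = 0 := by linear_combination e
    have e'' : d1 * d2 + d2 * d2 = 0 := h6u.mul_right_eq_zero.mp (by exact_mod_cast e')
    have e4 := congrArg s e''
    simp only [map_add, map_mul, map_zero, hd2, hd3] at e4
    have hd : d2 = 0 := eq_zero_of_mul_self (by linear_combination e4 - e'')
    rw [hd1, map_add, hd1, hd2, hd]
    ring
  intro x hx
  obtain ⟨d1, hd1⟩ : ∃ d, s x = x + d := ⟨s x - x, by ring⟩
  have e2 := h2 x hx
  rw [hd1, map_add, hd1] at e2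
  have hd2 : s d1 = d1 := by linear_combination e2
  have e := h2 _ (hsq x hx)
  simp only [map_mul, map_add, hd1, hd2] at e
  have e' : (2 : C) * (d1 * d1) = 0 := by linear_combination e
  have hd : d1 = 0 := eq_zero_of_mul_self (h2u.mul_right_eq_zero.mp (by exact_mod_cast e'))
  rw [hd1, hd, add_zero]

/-- A nontrivial element-wise action has an element with nonzero difference that is additive and
whose stabiliser has index `p`. -/
theorem exists_index_p_moved (hB : IsPGroup p B) [Finite B] [Finite C] (σ : B →* (C →+* C))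
    (R : Subring C) (hR : ∀ b, ∀ r ∈ R, σ b r ∈ R) (hmove : ∃ b, ∃ r ∈ R, σ b r ≠ r) :
    ∃ y ∈ R, ∃ b : B, σ b y ≠ y ∧
      ∀ c : B, ∃ (j : ℕ) (c₁ : B), c = b ^ j * c₁ ∧ σ c₁ y = y := by
  classical
  let τ : B →* AddMonoid.End C :=
    { toFun := fun b => (σ b).toAddMonoidHom
      map_one' := by rw [map_one]; rfl
      map_mul' := fun a b => by rw [map_mul]; rfl }
  have hC : ∀ v : C, p • v = 0 := fun v => by rw [nsmul_eq_mul, CharP.cast_eq_zero, zero_mul]
  let F : AddSubgroup C :=
    { carrier := {r | ∀ b, σ b r = r}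
      zero_mem' := fun b => map_zero _
      add_mem' := fun {x y} hx hy b => by rw [map_add, hx b, hy b]
      neg_mem' := fun {x} hx b => by rw [map_neg, hx b] }
  obtain ⟨w, hw, hwF, hwd⟩ := exists_fixed_mem hB hC τ R.toAddSubgroup F
    (fun b r hr => hR b r hr) (fun hle => by
      obtain ⟨b, r, hr, hne⟩ := hmove
      exact hne (hle hr b))
  -- elements with fixed differences, with the largest stabiliser
  obtain ⟨y, ⟨hy, hyF, hyd⟩, hmax⟩ := Set.exists_max_image
    {y : C | y ∈ R ∧ y ∉ F ∧ ∀ b, σ b y - y ∈ F} (fun y => Nat.card {b : B // σ b y = y})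
    (Set.toFinite _) ⟨w, hw, hwF, hwd⟩
  set β : B → C := fun b => σ b y - y with hβdef
  have hβfix : ∀ b c, σ c (β b) = β b := fun b c => hyd b c
  have hβR : ∀ b, β b ∈ R := fun b => R.sub_mem (hR b y hy) hy
  have hσy : ∀ b, σ b y = y + β b := fun b => by simp [hβdef]
  have hmul : ∀ b c, β (b * c) = β b + β c := fun b c => by
    show σ (b * c) y - y = _
    rw [map_mul]
    show σ b (σ c y) - y = _
    rw [hσy c, map_add, hβfix, hσy b]
    abel
  have hpow : ∀ b (n : ℕ), β (b ^ n) = n * β b := by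
    intro b n
    induction n with
    | zero => simp [hβdef]
    | succ n ih => rw [pow_succ, hmul, ih]; push_cast; ring
  have hzero : ∀ b, σ b y = y ↔ β b = 0 := fun b => by simp [hβdef, sub_eq_zero]
  -- all nonzero values have the same `(p - 1)`-th power
  have hsame : ∀ b c, β c ≠ 0 → β b ^ p = β c ^ (p - 1) * β b := by
    intro b c hc
    by_contra hne
    set z := y ^ p - β c ^ (p - 1) * y with hz
    have hzd : ∀ e, σ e z - z = β e ^ p - β c ^ (p - 1) * β e := fun e => by
      rw [hz, map_sub, map_pow, map_mul, map_pow, hβfix, hσy, add_pow_char]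
      ring
    have hzR : z ∈ R := R.sub_mem (pow_mem hy p) (R.mul_mem (pow_mem (hβR c) _) hy)
    have hzF : z ∉ F := fun h => hne (sub_eq_zero.mp (by rw [← hzd, h b, sub_self]))
    have hzdF : ∀ e, σ e z - z ∈ F := fun e a => by
      rw [hzd, map_sub, map_pow, map_mul, map_pow, hβfix, hβfix]
    have hle := hmax z ⟨hzR, hzF, hzdF⟩
    have hsub : {e : B | σ e y = y} ⊂ {e : B | σ e z = z} := by
      refine Set.ssubset_iff_exists.mpr ⟨fun e he => ?_, c, ?_, fun h => hc ((hzero c).mp h)⟩
      · refine sub_eq_zero.mp ((hzd e).trans ?_)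
        rw [(hzero e).mp he, zero_pow (Fact.out : p.Prime).ne_zero, mul_zero, sub_zero]
      · refine sub_eq_zero.mp ((hzd c).trans ?_)
        rw [pow_sub_one_mul (Fact.out : p.Prime).ne_zero, sub_self]
    exact (Set.ncard_lt_ncard hsub (Set.toFinite _)).not_ge hle
  have hkey : ∀ b c, β b ≠ 0 → β c ≠ 0 → β b ^ (p - 1) = β c ^ (p - 1) := by
    intro b c hb hc
    have hpz := (Fact.out : p.Prime).ne_zero
    have hp1 : p - 1 ≠ 0 := by have := (Fact.out : p.Prime).two_le; omega
    set X := β b ^ (p - 1) with hX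
    set Y := β c ^ (p - 1) with hY
    have h1 : (X - Y) * β b = 0 := by
      rw [sub_mul, hX, pow_sub_one_mul hpz, hsame b c hc, sub_self]
    have h2 : (X - Y) * β c = 0 := by
      rw [sub_mul, hY, pow_sub_one_mul hpz, hsame c b hb, sub_self]
    have h1' : (X - Y) * X = 0 := by
      rw [show X = β b * β b ^ (p - 1 - 1) by rw [mul_comm, pow_sub_one_mul hp1], ← mul_assoc]
      rw [show β b * β b ^ (p - 1 - 1) = X by rw [mul_comm, pow_sub_one_mul hp1]]
      rw [h1, zero_mul]
    have h2' : (X - Y) * Y = 0 := by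
      rw [show Y = β c * β c ^ (p - 1 - 1) by rw [mul_comm, pow_sub_one_mul hp1], ← mul_assoc]
      rw [show β c * β c ^ (p - 1 - 1) = Y by rw [mul_comm, pow_sub_one_mul hp1]]
      rw [h2, zero_mul]
    exact sub_eq_zero.mp (eq_zero_of_mul_self (by linear_combination h1' - h2'))
  obtain ⟨b, hb⟩ : ∃ b, β b ≠ 0 := by
    by_contra h
    push Not at h
    exact hyF fun b => (hzero b).mpr (h b)
  refine ⟨y, hy, b, fun h => hb ((hzero b).mp h), fun c => ?_⟩
  by_contra hcon
  push Not at hcon
  set u := β b with hu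
  set v := β c with hv
  -- no combination `v + j * u` vanishes
  have hne : ∀ j : ℕ, v + (j : C) * u ≠ 0 := by
    intro j h
    obtain ⟨m, hm⟩ := hB b
    have hp2 : 1 ≤ p ^ m := Nat.one_le_pow _ _ (Fact.out : p.Prime).pos
    refine hcon (j * (p ^ m - 1)) (b ^ j * c) ?_ ((hzero _).mpr ?_)
    · rw [← mul_assoc, ← pow_add, show j * (p ^ m - 1) + j = p ^ m * j by
        obtain ⟨q, hq⟩ : ∃ q, p ^ m = q + 1 := ⟨p ^ m - 1, by omega⟩
        rw [hq, Nat.add_sub_cancel]; ring, pow_mul, hm, one_pow, one_mul]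
    · rw [hmul, hpow, add_comm]
      exact h
  have hf : ∀ j : ZMod p, (v + ZMod.castHom (dvd_refl p) C j * u) ^ (p - 1) = u ^ (p - 1) := by
    intro j
    have e : β (c * b ^ j.val) = v + ZMod.castHom (dvd_refl p) C j * u := by
      rw [hmul, hpow, ZMod.castHom_apply, ZMod.cast_eq_val]
    rw [← e]
    exact hkey _ b (by rw [e, ZMod.castHom_apply, ZMod.cast_eq_val]; exact hne _) hb
  have hsum : ∑ j : ZMod p, (v + ZMod.castHom (dvd_refl p) C j * u) ^ (p - 1) = -u ^ (p - 1) := by
    simp only [add_comm v, add_pow, mul_pow]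
    rw [Finset.sum_comm, Finset.sum_range_succ, Finset.sum_eq_zero (fun i hi => ?_), zero_add]
    · simp only [← map_pow, Nat.choose_self, Nat.cast_one, mul_one, Nat.sub_self, pow_zero]
      rw [← Finset.sum_mul, ← map_sum]
      have hs : ∑ j : ZMod p, j ^ (p - 1) = -1 := by
        have hp1 : p - 1 ≠ 0 := by have := (Fact.out : p.Prime).two_le; omega
        rw [← Finset.sum_erase_add _ _ (Finset.mem_univ (0 : ZMod p)), zero_pow hp1,
          add_zero, Finset.sum_congr rfl (fun x hx => ZMod.pow_card_sub_one_eq_one (p := p)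
            (Finset.ne_of_mem_erase hx))]
        rw [Finset.sum_const, Finset.card_erase_of_mem (Finset.mem_univ _), Finset.card_univ,
          ZMod.card, nsmul_one, Nat.cast_sub (Fact.out : p.Prime).pos, ZMod.natCast_self,
          Nat.cast_one, zero_sub]
      rw [hs, map_neg, map_one, neg_one_mul]
    · rw [Finset.mem_range] at hi
      simp only [← map_pow, ← Finset.sum_mul, ← map_sum]
      rw [
        FiniteField.sum_pow_lt_card_sub_one (K := ZMod p) i (by rwa [ZMod.card]), map_zero,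
        zero_mul, zero_mul, zero_mul]
  simp only [hf, Finset.sum_const, Finset.card_univ, ZMod.card, nsmul_eq_mul,
    CharP.cast_eq_zero, zero_mul] at hsum
  exact hb (IsReduced.eq_zero _ ⟨p - 1, neg_eq_zero.mp hsum.symm⟩)

/-- A deep element fixed by a subgroup of index `p`. -/
theorem exists_deep (hp : 5 ≤ p) (hB : IsPGroup p B) [Finite B] [Finite C] (σ : B →* (C →+* C))
    (R : Subring C) (hR : ∀ b, ∀ r ∈ R, σ b r ∈ R) (hmove : ∃ b, ∃ r ∈ R, σ b r ≠ r) :
    ∃ (b : B) (f g h t : C), f ∈ R ∧ σ b f = f + g ∧ σ b g = g + h ∧ σ b h = h + t ∧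
      (∀ c, σ c t = t) ∧ t ≠ 0 ∧ ∀ c, ∃ j : ℕ, σ c f = σ (b ^ j) f ∧ σ c g = σ (b ^ j) g := by
  obtain ⟨y, hy, b, hby, hdec⟩ := exists_index_p_moved hB σ R hR hmove
  let R1 : Set C := {x | x ∈ R ∧ ∀ c, σ c y = y → σ c x = x}
  have hcom : ∀ (a c : B) (x : C), σ a (σ c x) = σ c (σ a x) := fun a c x => by
    show (σ a * σ c) x = (σ c * σ a) x
    rw [← map_mul, ← map_mul, mul_comm]
  let d : C → C := fun x => σ b x - x
  have hd : ∀ x ∈ R1, d x ∈ R1 := fun x hx => ⟨R.sub_mem (hR b x hx.1) hx.1, fun c hc => by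
    show σ c (σ b x - x) = σ b x - x
    rw [map_sub, hcom, hx.2 c hc]⟩
  obtain ⟨x, hx, hx3⟩ : ∃ x ∈ R1, d (d (d x)) ≠ 0 := by
    by_contra h
    push Not at h
    refine hby (fixed_of_delta_cube hp (σ b) R1
      (fun x hx => ⟨R.mul_mem hx.1 hx.1, fun c hc => by rw [map_mul, hx.2 c hc]⟩)
      (fun x hx => ?_) y ⟨hy, fun c hc => hc⟩)
    rw [← h x hx]
    simp only [d, map_sub]
    ring
  -- descend to the last nonzero difference
  have hCp : ∀ v : C, p • v = 0 := fun v => by rw [nsmul_eq_mul, CharP.cast_eq_zero, zero_mul]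
  obtain ⟨n, hn⟩ := hB b
  let s : AddMonoid.End C := (σ b).toAddMonoidHom
  have hsapp : ∀ k z, (s ^ k) z = σ (b ^ k) z := by
    intro k
    induction k with
    | zero => intro z; rw [pow_zero, pow_zero, map_one]; rfl
    | succ k ih =>
      intro z
      rw [pow_succ, pow_succ, map_mul]
      exact ih (σ b z)
  have hs : s ^ p ^ n = 1 := AddMonoidHom.ext fun z => by
    refine (hsapp (p ^ n) z).trans ?_
    rw [hn, map_one]; rfl
  have hdi : ∀ k z, d^[k] z = ((s - 1) ^ k) z := by
    intro k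
    induction k with
    | zero => intro z; rfl
    | succ k ih => intro z; rw [Function.iterate_succ_apply, ih, pow_succ]; rfl
  have hnil : d^[p ^ n] x = 0 := by rw [hdi, sub_one_pow_eq_zero hCp s hs]; rfl
  classical
  have hex : ∃ k, d^[k] x = 0 := ⟨_, hnil⟩
  have hk4 : 4 ≤ Nat.find hex := by
    by_contra hlt
    push Not at hlt
    have h0 := Nat.find_spec hex
    have hzero : ∀ k, Nat.find hex ≤ k → d^[k] x = 0 := by
      intro k hk
      induction k, hk using Nat.le_induction with
      | base => exact h0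
      | succ k _ ih => rw [Function.iterate_succ_apply', ih]; simp [d]
    exact hx3 (hzero 3 (by omega))
  set f := d^[Nat.find hex - 4] x with hf
  have hfR : f ∈ R1 := by
    rw [hf]
    generalize Nat.find hex - 4 = k
    induction k with
    | zero => exact hx
    | succ k ih => rw [Function.iterate_succ_apply']; exact hd _ ih
  have ht : d^[3] f ≠ 0 := by
    rw [hf, ← Function.iterate_add_apply]
    exact Nat.find_min hex (by omega)
  have ht' : d^[4] f = 0 := by
    rw [hf, ← Function.iterate_add_apply, show 4 + (Nat.find hex - 4) = Nat.find hex by omega]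
    exact Nat.find_spec hex
  have htR : d (d (d f)) ∈ R1 := hd _ (hd _ (hd _ hfR))
  have htb : σ b (d (d (d f))) = d (d (d f)) := sub_eq_zero.mp ht'
  refine ⟨b, f, d f, d (d f), d (d (d f)), hfR.1, by simp [d], by simp [d], by simp [d],
    fun c => ?_, ht, fun c => ?_⟩
  · obtain ⟨j, c₁, rfl, hc₁⟩ := hdec c
    rw [map_mul]
    show σ (b ^ j) (σ c₁ _) = _
    rw [htR.2 c₁ hc₁, ← hsapp]
    induction j with
    | zero => rfl
    | succ j ih =>
      rw [pow_succ]
      show (s ^ j) (σ b _) = _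
      rw [htb, ih]
  · obtain ⟨j, c₁, rfl, hc₁⟩ := hdec c
    refine ⟨j, ?_, ?_⟩
    · rw [map_mul]; exact congrArg (σ (b ^ j)) (hfR.2 c₁ hc₁)
    · rw [map_mul]; exact congrArg (σ (b ^ j)) ((hd f hfR).2 c₁ hc₁)

/-- An automorphism of odd order fixing every `k + k⁻¹` fixes every `k`. -/
theorem fixed_of_fixed_add_inv {K : Type*} (η : K → C) (ηi : K → C)
    (hinv : ∀ k, η k * ηi k = 1) (hmul : ∀ j k, ∃ l, η l = η j * η k ∧ ηi l = ηi j * ηi k)
    (s : C →+* C) (hs : ∀ k, ∃ l, s (η k) = η l ∧ s (ηi k) = ηi l)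
    {n : ℕ} (hn : Odd n) (hord : ∀ k, (s^[n]) (η k) = η k)
    (hfix : ∀ k, s (η k + ηi k) = η k + ηi k) : ∀ k, s (η k) = η k := by
  have hsinv : ∀ k, s (η k) * s (ηi k) = 1 := fun k => by rw [← map_mul, hinv, map_one]
  have h1 : ∀ k, (s (η k) - η k) * (s (η k) - ηi k) = 0 := fun k => by
    have h := hfix k
    rw [map_add] at h
    linear_combination s (η k) * h + hinv k - hsinv k
  have h2 : ∀ j k, (s (η j) - η j) * (s (η k) - ηi k) = 0 := by
    intro j k
    obtain ⟨l, hl, hl'⟩ := hmul j k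
    have h := h1 l
    rw [hl, hl', map_mul] at h
    have hj := h1 j
    have hk := h1 k
    refine eq_zero_of_mul_self ?_
    set A := s (η j) - η j with hA
    set Bk := s (η k) - ηi k with hB
    have e1 : s (η j) = η j + A := by rw [hA]; ring
    have e2 : s (η k) = ηi k + Bk := by rw [hB]; ring
    rw [e1, e2] at h
    rw [e1] at hj
    rw [e2] at hk
    have hA2 : A * A = A * (ηi j - η j) := by linear_combination hj
    have hB2 : Bk * Bk = Bk * (η k - ηi k) := by linear_combination hk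
    have hAj : A * (η j + A) = A * ηi j := by linear_combination hj
    have hBk : Bk * (ηi k + Bk) = Bk * η k := by linear_combination hk
    have h' : A * Bk * ((ηi j * η k - η j * η k) * (ηi j * η k - ηi j * ηi k)) = 0 := by
      have e : A * Bk * ((η j + A) * (ηi k + Bk)) = A * Bk * (ηi j * η k) := by
        linear_combination Bk * (ηi k + Bk) * hAj + A * ηi j * hBk
      linear_combination A * Bk * h -
        ((η j + A) * (ηi k + Bk) + ηi j * η k - η j * η k - ηi j * ηi k) * e
    calc A * Bk * (A * Bk) = A * A * (Bk * Bk) := by ring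
      _ = A * (ηi j - η j) * (Bk * (η k - ηi k)) := by rw [hA2, hB2]
      _ = (η j * ηi k) * (A * Bk * ((ηi j * η k - η j * η k) * (ηi j * η k - ηi j * ηi k))) := by
        linear_combination (-(A * Bk * (ηi j - η j) * (η k - ηi k) * (η k * ηi k))) * hinv j -
          (A * Bk * (ηi j - η j) * (η k - ηi k)) * hinv k
      _ = 0 := by rw [h', mul_zero]
  intro j
  set A := s (η j) - η j with hA
  have hstep : ∀ k, A * s (η k) = A * ηi k := fun k => by linear_combination h2 j k
  have hstep' : ∀ k, A * s (ηi k) = A * η k := fun k => by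
    linear_combination (-(η k * s (ηi k))) * hstep k +
      (A * η k) * hsinv k - (A * s (ηi k)) * hinv k
  have hiter : ∀ m k, (Even m → A * (s^[m]) (η k) = A * η k) ∧
      (Odd m → A * (s^[m]) (η k) = A * ηi k) := by
    intro m
    induction m with
    | zero => exact fun k => ⟨fun _ => rfl, fun h => absurd h (by simp)⟩
    | succ m ih =>
      intro k
      obtain ⟨l, hl, hl'⟩ := hs k
      rw [Function.iterate_succ_apply, hl]
      refine ⟨fun h => ?_, fun h => ?_⟩
      · rw [(ih l).2 (Nat.not_even_iff_odd.mp (Nat.even_add_one.mp h)), ← hl', hstep']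
      · rw [(ih l).1 (by simpa [Nat.odd_add_one] using h), ← hl, hstep]
  have h := (hiter n j).2 hn
  rw [hord] at h
  have hj := h1 j
  exact sub_eq_zero.mp (eq_zero_of_mul_self (by linear_combination hj - h))

end Ring

end CfsgLib.ThompsonAuto
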