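import Cfsg.Agent.ThompsonAuto.Algebra
import Cfsg.Agent.Kinf.Minimal
import Cfsg.Agent.Kinf.Series
import Cfsg.Agent.ZJ.ThompsonComplement
import Cfsg.Agent.Solvable.Factor

/-!
For `p ≥ 5`, in a `p`-constrained group with maximal Sylow subgroup and abelian normal
`p`-complement modulo `O_p`, the abelian subgroups of largest order of a Sylow subgroup lie in
`O_p`.
-/

set_option autoImplicit false
set_option linter.unusedSectionVars false
set_option linter.style.haveILetI false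
set_option maxHeartbeats 1000000

namespace CfsgLib.ThompsonAuto

open Subgroup CfsgLib.ZJ
open scoped commutatorElement IsMulCommutative Pointwise

universe u

/-- Conjugation on a normal subgroup, as endomorphisms of it written additively. -/
def conjEnd {G : Type*} [Group G] (N : Subgroup G) [N.Normal] :
    G →* AddMonoid.End (Additive ↥N) where
  toFun g := MonoidHom.toAdditive (MulAut.conjNormal (H := N) g).toMonoidHom
  map_one' := by rw [map_one]; rfl
  map_mul' a b := by rw [map_mul]; rfl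

theorem conjEnd_apply {G : Type*} [Group G] (N : Subgroup G) [N.Normal] (g : G) (x : ↥N) :
    conjEnd N g (Additive.ofMul x) = Additive.ofMul (MulAut.conjNormal g x) := rfl

variable {p : ℕ} [Fact p.Prime] {G : Type u} [Group G] [Finite G]

/-- Thompson's replacement count: if the commutators with `x` of a largest abelian subgroup `A`
commute, then modulo `A` they fill the group they generate. -/
theorem exists_comm_inv_mul_mem {P A : Subgroup G}
    (hA : A ∈ fam (fun A : Subgroup G => IsMulCommutative A) P) {x : G} (hx : x ∈ P)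
    (hab : ∀ a ∈ A, ∀ b ∈ A, ⁅a, x⁆ * ⁅b, x⁆ = ⁅b, x⁆ * ⁅a, x⁆) :
    ∀ m ∈ closure {y | ∃ a ∈ A, ⁅a, x⁆ = y}, ∃ a ∈ A, ⁅a, x⁆⁻¹ * m ∈ A := by
  classical
  have hAc : ∀ a ∈ A, ∀ b ∈ A, a * b = b * a := fun a ha b hb =>
    congrArg Subtype.val (hA.1.is_comm.comm ⟨a, ha⟩ ⟨b, hb⟩)
  set M := closure {y | ∃ a ∈ A, ⁅a, x⁆ = y} with hM
  have hMc : IsMulCommutative M := Subgroup.isMulCommutative_closure (by
    rintro _ ⟨a, ha, rfl⟩ _ ⟨b, hb, rfl⟩
    exact hab a ha b hb)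
  have hMc' : ∀ a ∈ M, ∀ b ∈ M, a * b = b * a := fun a ha b hb =>
    congrArg Subtype.val (hMc.is_comm.comm ⟨a, ha⟩ ⟨b, hb⟩)
  have hd : ∀ a ∈ A, ⁅a, x⁆ ∈ M := fun a ha => subset_closure ⟨a, ha, rfl⟩
  have hMP : M ≤ P := (closure_le _).mpr (by
    rintro _ ⟨a, ha, rfl⟩
    simp only [SetLike.mem_coe, commutatorElement_def]
    exact P.mul_mem (P.mul_mem (P.mul_mem (hA.2.1 ha) hx) (P.inv_mem (hA.2.1 ha))) (P.inv_mem hx))
  set C := A ⊓ centralizer (M : Set G) with hC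
  have hCM : C ⊓ M = M ⊓ A := le_antisymm (fun y hy => ⟨hy.2, hy.1.1⟩) (fun y hy =>
    ⟨⟨hy.2, mem_centralizer_iff.mpr fun z hz => hMc' z hz y hy.1⟩, hy.1⟩)
  have hCMc : IsMulCommutative ↥(C ⊔ M) := by
    rw [show C ⊔ M = closure ((C : Set G) ∪ (M : Set G)) by
      rw [Subgroup.closure_union, Subgroup.closure_eq, Subgroup.closure_eq]]
    refine Subgroup.isMulCommutative_closure ?_
    rintro a (ha | ha) b (hb | hb)
    · exact hAc a ha.1 b hb.1
    · exact (mem_centralizer_iff.mp ha.2 b hb).symm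
    · exact mem_centralizer_iff.mp hb.2 a ha
    · exact hMc' a ha b hb
  have hle : Nat.card C * Nat.card M ≤ Nat.card A * Nat.card ↥(M ⊓ A) := by
    rw [← Factor.card_mul_set C M, hCM]
    refine Nat.mul_le_mul_right _ (le_trans ?_ (hA.2.2 _ hCMc (sup_le (inf_le_left.trans hA.2.1) hMP)))
    refine Nat.card_mono (Set.toFinite _) ?_
    rintro _ ⟨c, hc, m, hm, rfl⟩
    exact mul_mem (mem_sup_left hc) (mem_sup_right hm)
  -- the map from cosets of `C` in `A` to cosets of `A ⊓ M` in `M`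
  let q : (↥A ⧸ C.subgroupOf A) → (↥M ⧸ A.subgroupOf M) := fun y =>
    QuotientGroup.mk (⟨⁅(y.out : G), x⁆, hd _ y.out.2⟩ : M)
  have hq : Function.Injective q := by
    intro y z hyz
    rw [QuotientGroup.eq, mem_subgroupOf] at hyz
    set a : G := (y.out : G) with ha
    set b : G := (z.out : G) with hb
    replace hyz : ⁅a, x⁆⁻¹ * ⁅b, x⁆ ∈ A := hyz
    have haA : a ∈ A := y.out.2
    have hbA : b ∈ A := z.out.2
    set c := a⁻¹ * b with hc
    have hcA : c ∈ A := mul_mem (inv_mem haA) hbA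
    have hmul : ∀ s t : G, ⁅s * t, x⁆ = s * ⁅t, x⁆ * s⁻¹ * ⁅s, x⁆ := fun s t => by
      simp only [commutatorElement_def]; group
    have hbc : ⁅b, x⁆ = a * ⁅c, x⁆ * a⁻¹ * ⁅a, x⁆ := by
      rw [← hmul, hc, mul_inv_cancel_left]
    have hmem : a * ⁅c, x⁆ * a⁻¹ ∈ M := by
      rw [show a * ⁅c, x⁆ * a⁻¹ = ⁅b, x⁆ * ⁅a, x⁆⁻¹ by rw [hbc]; group]
      exact mul_mem (hd b hbA) (inv_mem (hd a haA))
    have he : a * ⁅c, x⁆ * a⁻¹ ∈ A := by
      rwa [hbc, hMc' _ hmem _ (hd a haA), inv_mul_cancel_left] at hyz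
    have hdc : ⁅c, x⁆ ∈ A := by
      have := mul_mem (mul_mem (inv_mem haA) he) haA
      rwa [show a⁻¹ * (a * ⁅c, x⁆ * a⁻¹) * a = ⁅c, x⁆ by group] at this
    rw [← QuotientGroup.out_eq' y, ← QuotientGroup.out_eq' z, QuotientGroup.eq, mem_subgroupOf]
    refine ⟨hcA, ?_⟩
    show c ∈ centralizer (M : Set G)
    rw [hM, centralizer_closure, mem_centralizer_iff]
    rintro _ ⟨s, hs, rfl⟩
    have h1 : ⁅c * s, x⁆ = ⁅s * c, x⁆ := by rw [hAc c hcA s hs]
    rw [hmul c s, hmul s c, hAc s hs _ hdc, mul_inv_cancel_right, hMc' _ (hd c hcA) _ (hd s hs),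
      mul_left_inj] at h1
    calc ⁅s, x⁆ * c = c * ⁅s, x⁆ * c⁻¹ * c := by rw [h1]
      _ = c * ⁅s, x⁆ := by group
  have hcard : Nat.card (↥M ⧸ A.subgroupOf M) ≤ Nat.card (↥A ⧸ C.subgroupOf A) := by
    have h1 := card_eq_card_quotient_mul_card_subgroup (C.subgroupOf A)
    rw [Nat.card_congr (subgroupOfEquivOfLe (inf_le_left : C ≤ A)).toEquiv] at h1
    have h2 := card_eq_card_quotient_mul_card_subgroup (A.subgroupOf M)
    have h3 : Nat.card (A.subgroupOf M) = Nat.card ↥(M ⊓ A) := by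
      rw [inf_comm M A, ← inf_subgroupOf_right A M]
      exact Nat.card_congr (subgroupOfEquivOfLe inf_le_right).toEquiv
    rw [h3] at h2
    rw [h1, h2] at hle
    nlinarith [Nat.card_pos (α := C), Nat.card_pos (α := ↥(M ⊓ A)), hle,
      Nat.mul_pos (Nat.card_pos (α := C)) (Nat.card_pos (α := ↥(M ⊓ A)))]
  intro m hm
  obtain ⟨y, hy⟩ := (hq.bijective_of_nat_card_le hcard).2 (QuotientGroup.mk ⟨m, hm⟩)
  exact ⟨y.out, y.out.2, mem_subgroupOf.mp (QuotientGroup.eq.mp hy)⟩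

variable (hp : 5 ≤ p)
include hp

/-- In the critical configuration every largest abelian subgroup of the Sylow subgroup lies in the
`p`-core. -/
theorem le_pCore_of_critical (P : Sylow p G)
    (hCH : centralizer (Cfsg.pCore p G : Set G) ≤ Cfsg.pCore p G)
    (hmax : ∀ M : Subgroup G, (P : Subgroup G) ≤ M → M = P ∨ M = ⊤)
    (L : Subgroup G) [L.Normal] (hL : ∀ x : G, ∃ k, x ^ p ^ k ∈ L)
    (hab : ∀ x ∈ L, ∀ y ∈ L, x * y * x⁻¹ * y⁻¹ ∈ Cfsg.pCore p G)
    (hLm : ∀ x ∈ L, ∃ m : ℕ, m.Coprime p ∧ x ^ m ∈ Cfsg.pCore p G)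
    (A : Subgroup G) (hA : A ∈ fam (fun A : Subgroup G => IsMulCommutative A) (P : Subgroup G)) :
    A ≤ Cfsg.pCore p G := by
  classical
  set H := Cfsg.pCore p G with hH
  have hpp : p.Prime := Fact.out
  have hHp : IsPGroup p H := Solvable.isPGroup_pCore p
  haveI hHn : H.Normal := Solvable.pCore_normal p
  have hHP : H ≤ P := pCore_le_sylow P
  by_contra hAH
  obtain ⟨a₀, ha₀, ha₀H⟩ := SetLike.not_le_iff_exists.mp hAH
  let Q : Set G := {k | k ∈ L ∧ (orderOf k).Coprime p}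
  have hQconj : ∀ g, ∀ k ∈ Q, g * k * g⁻¹ ∈ Q := fun g k hk =>
    ⟨Normal.conj_mem inferInstance k hk.1 g, by
      rw [show g * k * g⁻¹ = MulAut.conj g k from rfl, MulEquiv.orderOf_eq]; exact hk.2⟩
  have hQinv : ∀ k ∈ Q, k⁻¹ ∈ Q := fun k hk => ⟨inv_mem hk.1, by rw [orderOf_inv]; exact hk.2⟩
  have hHone : ∀ y ∈ H, (orderOf y).Coprime p → y = 1 := by
    intro y hy hc
    obtain ⟨j, hj⟩ := hHp ⟨y, hy⟩
    have h1 : orderOf y ∣ p ^ j :=
      orderOf_dvd_of_pow_eq_one (by simpa using congrArg Subtype.val hj)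
    exact orderOf_eq_one_iff.mp (Nat.eq_one_of_dvd_coprimes (hc.pow_right j) dvd_rfl h1)
  have hdec : ∀ x ∈ L, ∃ k ∈ Q, k⁻¹ * x ∈ H := by
    intro x hx
    obtain ⟨m, hm, hxm⟩ := hLm x hx
    obtain ⟨j, hj1, hj0⟩ := Nat.chineseRemainder (hm.pow_right ((orderOf x).factorization p)) 1 0
    refine ⟨x ^ j, ⟨pow_mem hx j, ?_⟩, ?_⟩
    · refine Nat.Coprime.coprime_dvd_left (orderOf_dvd_of_pow_eq_one (x := x ^ j)
        (n := orderOf x / p ^ (orderOf x).factorization p) ?_)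
        (Nat.coprime_ordCompl hpp (orderOf_pos x).ne').symm
      rw [← pow_mul, ← orderOf_dvd_iff_pow_eq_one]
      conv_lhs => rw [← Nat.ordProj_mul_ordCompl_eq_self (orderOf x) p]
      exact mul_dvd_mul_right ((Nat.modEq_zero_iff_dvd).mp hj0) _
    · obtain ⟨c, hc⟩ : (m : ℤ) ∣ 1 - (j : ℤ) := by
        have := (Nat.modEq_iff_dvd (a := j) (b := 1) (n := m)).mp hj1
        simpa using this
      rw [show (x ^ j)⁻¹ * x = (x ^ m) ^ c by
        rw [← zpow_natCast x j, ← zpow_neg, ← zpow_add_one, ← zpow_natCast x m, ← zpow_mul, ← hc]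
        congr 1
        ring]
      exact zpow_mem hxm c
  -- the subgroup `P` with `L` is everything
  have hLnP : ¬ L ≤ (P : Subgroup G) := fun hLP => by
    have hG : IsPGroup p G := fun x => by
      obtain ⟨k, hk⟩ := hL x
      obtain ⟨j, hj⟩ := P.2 ⟨_, hLP hk⟩
      exact ⟨k + j, by rw [pow_add, pow_mul]; simpa using congrArg Subtype.val hj⟩
    exact ha₀H (Solvable.le_pCore p inferInstance (hG.to_subgroup ⊤) (mem_top a₀))
  have hPL : (P : Subgroup G) ⊔ L = ⊤ :=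
    (hmax _ le_sup_left).resolve_left fun h => hLnP (h ▸ le_sup_right)
  have hnormal : ∀ N : Subgroup G, (P : Subgroup G) ≤ normalizer (N : Set G) →
      L ≤ normalizer (N : Set G) → N.Normal := fun N h1 h2 =>
    normalizer_eq_top_iff.mp (top_le_iff.mp (hPL ▸ sup_le h1 h2))
  -- a minimal normal subgroup not centralized by `Q`
  obtain ⟨E, ⟨hEn, hEH, hEQ⟩, hEmin⟩ := Set.Finite.exists_minimal
    (Set.toFinite {X : Subgroup G | X.Normal ∧ X ≤ H ∧ ¬ ∀ k ∈ Q, ∀ e ∈ X, k * e = e * k})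
    ⟨H, hHn, le_rfl, fun h => by
      have hQ1 : ∀ k ∈ Q, k = 1 := fun k hk =>
        hHone k (hCH (mem_centralizer_iff.mpr fun e he => (h k hk e he).symm)) hk.2
      have hLH : L ≤ H := fun x hx => by
        obtain ⟨k, hk, hkx⟩ := hdec x hx
        rwa [hQ1 k hk, inv_one, one_mul] at hkx
      exact hLnP (hLH.trans hHP)⟩
  haveI := hEn
  have hEne : E ≠ ⊥ := fun h => hEQ fun k _ e he => by
    rw [h, mem_bot] at he; rw [he, mul_one, one_mul]
  obtain ⟨Z, -, hEZ⟩ := Kinf.exists_chiefFactor_below hEn (inferInstance : (⊥ : Subgroup G).Normal)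
    (bot_lt_iff_ne_bot.mpr hEne)
  haveI : Z.Normal := hEZ.2.2.1
  have hZE : Z ≤ E := hEZ.1.le
  have hEHZ : ⁅E, H⁆ ≤ Z := Kinf.commutator_le_of_chiefFactor hEZ hHp hEH
  have hEpow := (Kinf.chiefFactor_elementary hEZ (hHp.to_le hEH)).2
  have hcent : ∀ N : Subgroup G, N.Normal → N ≤ E → N ≠ E → ∀ k ∈ Q, ∀ e ∈ N, k * e = e * k := by
    intro N hN hNE hne
    by_contra h
    exact hne (le_antisymm hNE (hEmin ⟨hN, hNE.trans hEH, h⟩ hNE))
  have hZQ := hcent Z inferInstance hZE hEZ.1.ne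
  have hstab : ∀ k ∈ Q, ∀ e ∈ E, k * (e⁻¹ * k * e * k⁻¹) = e⁻¹ * k * e * k⁻¹ * k → k * e = e * k := by
    intro k hk e he hc
    set c := e⁻¹ * k * e * k⁻¹ with hcdef
    have hj : ∀ j : ℕ, k ^ j * e = e * c ^ j * k ^ j := by
      intro j
      induction j with
      | zero => simp
      | succ j ih =>
        calc k ^ (j + 1) * e = k ^ j * (k * e) := by rw [pow_succ, mul_assoc]
          _ = k ^ j * e * (c * k) := by rw [hcdef]; group
          _ = e * c ^ j * (k ^ j * c) * k := by rw [ih]; simp only [mul_assoc]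
          _ = e * c ^ (j + 1) * k ^ (j + 1) := by
            rw [((show Commute k c from hc).pow_left j).eq, pow_succ c, pow_succ k]
            simp only [mul_assoc]
    have h1 := hj (orderOf k)
    rw [pow_orderOf_eq_one, one_mul, mul_one, left_eq_mul] at h1
    have hcH : c ∈ H := hEH (by
      rw [hcdef, show e⁻¹ * k * e * k⁻¹ = e⁻¹ * (k * e * k⁻¹) by group]
      exact mul_mem (inv_mem he) (hEn.conj_mem e he k))
    have hc1 : c = 1 := hHone c hcH (hk.2.coprime_dvd_left (orderOf_dvd_of_pow_eq_one h1))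
    calc k * e = e * c * k := by rw [hcdef]; group
      _ = e * k := by rw [hc1, mul_one]
  obtain ⟨k₁, hk₁, e₁, he₁, hne₁⟩ : ∃ k ∈ Q, ∃ e ∈ E, e⁻¹ * k * e * k⁻¹ ∉ Z := by
    by_contra h
    push Not at h
    exact hEQ fun k hk e he => hstab k hk e he (hZQ k hk _ (h k hk e he))
  -- `Z` is central in `E`
  have hZc : ∀ z ∈ Z, ∀ e ∈ E, z * e = e * z := by
    by_contra h
    have hne : E ⊓ centralizer (Z : Set G) ≠ E := fun he => h fun z hz e hee =>
      mem_centralizer_iff.mp (he.ge hee).2 z hz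
    have hCQ := hcent _ inferInstance inf_le_left hne
    refine hEQ fun k hk e he => hstab k hk e he (hCQ k hk _ ⟨?_, ?_⟩)
    · rw [show e⁻¹ * k * e * k⁻¹ = e⁻¹ * (k * e * k⁻¹) by group]
      exact E.mul_mem (E.inv_mem he) (hEn.conj_mem e he k)
    · refine mem_centralizer_iff.mpr fun z hz => ?_
      have hz' : k⁻¹ * z = z * k⁻¹ := hZQ _ (hQinv k hk) z hz
      have hw : e * z * e⁻¹ ∈ Z := Normal.conj_mem inferInstance z hz e
      have hw' := hZQ k hk _ hw
      calc z * (e⁻¹ * k * e * k⁻¹) = e⁻¹ * (e * z * e⁻¹ * k) * e * k⁻¹ := by group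
        _ = e⁻¹ * k * e * (z * k⁻¹) := by rw [← hw']; group
        _ = e⁻¹ * k * e * k⁻¹ * z := by rw [← hz']; group
  -- the module
  set π := QuotientGroup.mk' Z with hπ
  set Eb := E.map π with hEb
  haveI hEbn : Eb.Normal := hEn.map π (QuotientGroup.mk'_surjective Z)
  haveI hEbc : IsMulCommutative Eb := ⟨⟨by
    rintro ⟨_, x, hx, rfl⟩ ⟨_, y, hy, rfl⟩
    refine Subtype.ext ?_
    show π x * π y = π y * π x
    rw [← map_mul, ← map_mul]
    refine QuotientGroup.eq.mpr ?_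
    rw [show (x * y)⁻¹ * (y * x) = ⁅y⁻¹, x⁻¹⁆ by rw [commutatorElement_def]; group]
    exact hEHZ (commutator_mem_commutator (inv_mem hy) (hEH (inv_mem hx)))⟩⟩
  let V := Additive ↥Eb
  let mk : ↥E → V := fun x => Additive.ofMul ⟨π x, mem_map_of_mem π x.2⟩
  have hmk : ∀ x y : ↥E, mk x = mk y ↔ (x : G)⁻¹ * y ∈ Z := fun x y => by
    simp only [mk, Additive.ofMul.apply_eq_iff_eq, Subtype.mk.injEq]
    exact QuotientGroup.eq
  have hmk_add : ∀ x y : ↥E, mk (x * y) = mk x + mk y := fun x y => by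
    apply congrArg Additive.ofMul
    exact Subtype.ext (map_mul π _ _)
  have hmk0 : ∀ x : ↥E, (x : G) ∈ Z → mk x = 0 := fun x hx => by
    apply congrArg Additive.ofMul
    exact Subtype.ext ((QuotientGroup.eq_one_iff _).mpr hx)
  have hmksurj : ∀ v : V, ∃ x, mk x = v := by
    intro v
    obtain ⟨x, hx, hxv⟩ := (Additive.toMul v).2
    exact ⟨⟨x, hx⟩, congrArg Additive.ofMul (Subtype.ext hxv)⟩
  choose σl hσl using hmksurj
  have hVp : ∀ v : V, p • v = 0 := fun v => by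
    rw [← hσl v]
    apply congrArg Additive.ofMul
    refine Subtype.ext ?_
    show π (σl v) ^ p = 1
    rw [← map_pow]
    exact (QuotientGroup.eq_one_iff _).mpr (hEpow _ (σl v).2)
  let ρ : G →* AddMonoid.End V := (conjEnd Eb).comp π
  have hρ : ∀ (g : G) (x : ↥E), ρ g (mk x) = mk ⟨g * x * g⁻¹, hEn.conj_mem x x.2 g⟩ := fun g x => by
    apply congrArg Additive.ofMul
    refine Subtype.ext ?_
    show π g * π x * (π g)⁻¹ = π (g * x * g⁻¹)
    rw [map_mul, map_mul, map_inv]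
  have hρiff : ∀ g, ρ g = 1 ↔ ∀ x : ↥E, (x : G)⁻¹ * (g * x * g⁻¹) ∈ Z := fun g => by
    refine ⟨fun h x => ?_, fun h => AddMonoidHom.ext fun v => ?_⟩
    · have h' := hρ g x
      rw [h] at h'
      exact (hmk _ _).mp h'
    · rw [← hσl v]
      exact (hρ g (σl v)).trans ((hmk _ _).mpr (h (σl v))).symm
  have hρH : ∀ h ∈ H, ρ h = 1 := fun h hh => (hρiff h).mpr fun x => by
    rw [show (x : G)⁻¹ * (h * x * h⁻¹) = ⁅(x : G)⁻¹, h⁆ by rw [commutatorElement_def]; group]
    exact hEHZ (commutator_mem_commutator (inv_mem x.2) hh)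
  have hρk₁ : ρ k₁ ≠ 1 := fun h => hne₁ (by
    have := (hρiff k₁).mp h ⟨e₁, he₁⟩
    rwa [show e₁⁻¹ * k₁ * e₁ * k₁⁻¹ = e₁⁻¹ * (k₁ * e₁ * k₁⁻¹) by group])
  haveI : Nontrivial V := by
    refine ⟨?_⟩
    by_contra h
    push Not at h
    exact hρk₁ (AddMonoidHom.ext fun v => h _ _)
  -- the kernel is the p-core
  have hker : ρ.ker ≤ H := by
    rcases hmax (ρ.ker ⊔ (P : Subgroup G)) le_sup_right with h | h
    · exact Solvable.le_pCore p inferInstance (P.2.to_le (h ▸ le_sup_left))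
    · exfalso
      have hk : k₁ ∈ (ρ.ker : Set G) * ((P : Subgroup G) : Set G) := by
        rw [← normal_mul, h]; exact mem_top _
      obtain ⟨n, hn, t, ht, hnt⟩ := hk
      have e : ρ k₁ = ρ t := by rw [← hnt, map_mul, MonoidHom.mem_ker.mp hn, one_mul]
      obtain ⟨j, hj⟩ := P.2 ⟨t, ht⟩
      have h2 : orderOf (ρ k₁) ∣ p ^ j := orderOf_dvd_of_pow_eq_one (by
        rw [e, ← map_pow, show t ^ p ^ j = 1 by simpa using congrArg Subtype.val hj, map_one])
      exact hρk₁ (orderOf_eq_one_iff.mp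
        (Nat.eq_one_of_dvd_coprimes (hk₁.2.pow_right j) (orderOf_map_dvd ρ k₁) h2))
  -- the ring generated by the images of `Q`
  have hρcomm : ∀ a ∈ Q, ∀ b ∈ Q, ρ a * ρ b = ρ b * ρ a := fun a ha b hb => by
    rw [← map_mul, ← map_mul, show a * b = a * b * a⁻¹ * b⁻¹ * (b * a) by group, map_mul,
      hρH _ (hab a ha.1 b hb.1), one_mul]
  let C : Subring (AddMonoid.End V) := Subring.closure (ρ '' Q)
  haveI hCc : IsMulCommutative C := Subring.isMulCommutative_closure (by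
    rintro _ ⟨a, ha, rfl⟩ _ ⟨b, hb, rfl⟩
    exact hρcomm a ha b hb)
  haveI : Finite (AddMonoid.End V) := Finite.of_injective
    (fun f : AddMonoid.End V => (f : V → V)) DFunLike.coe_injective
  haveI : Nontrivial (AddMonoid.End V) := ⟨⟨ρ k₁, 1, hρk₁⟩⟩
  haveI : CharP C p := (CharP.charP_iff_prime_eq_zero hpp).mpr
    (Subtype.ext (AddMonoidHom.ext fun v => hVp v))
  -- an exponent fixing everything
  set N := Nat.card G / p ^ (Nat.card G).factorization p with hN
  have hNp : p.Coprime N := Nat.coprime_ordCompl hpp Nat.card_pos.ne'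
  set e := N.totient with he
  have he0 : 0 < e := Nat.totient_pos.mpr (Nat.ordCompl_pos p Nat.card_pos.ne')
  set q := p ^ e with hq
  have hq1 : 1 < q := Nat.one_lt_pow he0.ne' hpp.one_lt
  have hfrob : ∀ f : C, f ^ q = f := by
    rintro ⟨f, hf⟩
    induction hf using Subring.closure_induction with
    | mem f hf =>
      obtain ⟨k, hk, rfl⟩ := hf
      refine Subtype.ext ?_
      show ρ k ^ q = ρ k
      rw [← map_pow, pow_eq_pow_iff_modEq (x := k) (n := q) (m := 1) |>.mpr ?_ |>.trans (pow_one k)]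
      have hdvd : orderOf k ∣ N :=
        Nat.dvd_ordCompl_of_dvd_not_dvd (orderOf_dvd_natCard k) (hpp.coprime_iff_not_dvd.mp hk.2.symm)
      exact (Nat.ModEq.pow_totient hNp).of_dvd hdvd
    | zero => exact zero_pow (by omega)
    | one => exact one_pow q
    | add a b ha hb iha ihb =>
      show (⟨a, ha⟩ + ⟨b, hb⟩ : C) ^ q = ⟨a, ha⟩ + ⟨b, hb⟩
      rw [hq, add_pow_char_pow, ← hq, iha, ihb]
    | neg a ha iha =>
      show (-⟨a, ha⟩ : C) ^ q = -⟨a, ha⟩
      rw [(hpp.odd_of_ne_two (by omega)).pow.neg_pow, iha]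
    | mul a b ha hb iha ihb =>
      show (⟨a, ha⟩ * ⟨b, hb⟩ : C) ^ q = ⟨a, ha⟩ * ⟨b, hb⟩
      rw [mul_pow, iha, ihb]
  haveI : IsReduced C := ⟨fun f ⟨n, hn⟩ => by
    have hit : ∀ j, f ^ q ^ j = f := by
      intro j
      induction j with
      | zero => rw [pow_zero, pow_one]
      | succ j ih => rw [pow_succ, pow_mul, ih, hfrob]
    rw [← hit n, ← Nat.sub_add_cancel (Nat.lt_pow_self hq1).le, pow_add, hn, mul_zero]⟩
  let η : Q → C := fun k => ⟨ρ k, Subring.subset_closure ⟨k, k.2, rfl⟩⟩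
  let ηi : Q → C := fun k => η ⟨(k : G)⁻¹, hQinv k k.2⟩
  have hinv : ∀ k, η k * ηi k = 1 := fun k => Subtype.ext (by
    show ρ k * ρ (k : G)⁻¹ = 1
    rw [← map_mul, mul_inv_cancel, map_one])
  have hconjC : ∀ g : G, ∀ f ∈ C, ρ g * f * ρ g⁻¹ ∈ C := by
    intro g f hf
    have hg : ρ g⁻¹ * ρ g = 1 := by rw [← map_mul, inv_mul_cancel, map_one]
    induction hf using Subring.closure_induction with
    | mem f hf =>
      obtain ⟨k, hk, rfl⟩ := hf
      rw [← map_mul, ← map_mul]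
      exact Subring.subset_closure ⟨_, hQconj g k hk, rfl⟩
    | zero => rw [mul_zero, zero_mul]; exact zero_mem _
    | one =>
      rw [mul_one, ← map_mul, mul_inv_cancel, map_one]
      exact one_mem _
    | add a b _ _ iha ihb => rw [mul_add, add_mul]; exact add_mem iha ihb
    | neg a _ iha =>
      rw [show ρ g * -a * ρ g⁻¹ = -(ρ g * a * ρ g⁻¹) from
        AddMonoidHom.ext fun u => map_neg (ρ g) (a (ρ g⁻¹ u))]
      exact neg_mem iha
    | mul a b _ _ iha ihb =>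
      have := mul_mem iha ihb
      rwa [show ρ g * a * ρ g⁻¹ * (ρ g * b * ρ g⁻¹) = ρ g * a * (ρ g⁻¹ * ρ g) * b * ρ g⁻¹ by
        simp only [mul_assoc], hg, mul_one, mul_assoc (ρ g) a b] at this
  have hgg : ∀ g : G, ρ g⁻¹ * ρ g = 1 := fun g => by rw [← map_mul, inv_mul_cancel, map_one]
  let σ : ↥A →* (C →+* C) :=
    { toFun := fun a =>
        { toFun := fun f => ⟨ρ a * f * ρ (a : G)⁻¹, hconjC a f f.2⟩
          map_one' := Subtype.ext (by
            show ρ a * 1 * ρ (a : G)⁻¹ = 1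
            rw [mul_one, ← map_mul, mul_inv_cancel, map_one])
          map_mul' := fun f g => Subtype.ext (by
            show ρ a * ((f : AddMonoid.End V) * g) * ρ (a : G)⁻¹ =
              (ρ a * f * ρ (a : G)⁻¹) * (ρ a * g * ρ (a : G)⁻¹)
            simp only [mul_assoc]
            rw [← mul_assoc (ρ (a : G)⁻¹) (ρ a), hgg, one_mul])
          map_zero' := Subtype.ext (by
            show ρ a * 0 * ρ (a : G)⁻¹ = 0
            rw [mul_zero, zero_mul])
          map_add' := fun f g => Subtype.ext (by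
            show ρ a * ((f : AddMonoid.End V) + g) * ρ (a : G)⁻¹ =
              ρ a * f * ρ (a : G)⁻¹ + ρ a * g * ρ (a : G)⁻¹
            rw [mul_add, add_mul]) }
      map_one' := RingHom.ext fun f => Subtype.ext (by
        show ρ (1 : G) * f * ρ (1 : G)⁻¹ = f
        rw [inv_one, map_one, one_mul, mul_one])
      map_mul' := fun a b => RingHom.ext fun f => Subtype.ext (by
        show ρ ((a : G) * b) * f * ρ ((a : G) * b)⁻¹ =
          ρ a * (ρ b * f * ρ (b : G)⁻¹) * ρ (a : G)⁻¹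
        rw [mul_inv_rev, map_mul, map_mul]
        simp only [mul_assoc]) }
  have hσapp : ∀ (a : ↥A) (f : C) (u : V),
      ρ a ((f : AddMonoid.End V) u) = (σ a f : AddMonoid.End V) (ρ a u) := fun a f u => by
    show (ρ a * f) u = ((ρ a * f * ρ (a : G)⁻¹) * ρ a) u
    rw [mul_assoc _ (ρ (a : G)⁻¹), hgg, mul_one]
  have hση : ∀ (a : ↥A) (k : Q), σ a (η k) = η ⟨a * k * (a : G)⁻¹, hQconj a k k.2⟩ :=
    fun a k => Subtype.ext (by
      show ρ a * ρ k * ρ (a : G)⁻¹ = ρ (a * k * (a : G)⁻¹)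
      rw [map_mul, map_mul])
  have hσηi : ∀ (a : ↥A) (k : Q), σ a (ηi k) = ηi ⟨a * k * (a : G)⁻¹, hQconj a k k.2⟩ := fun a k => by
    refine (hση a _).trans (Subtype.ext ?_)
    show ρ (a * (k : G)⁻¹ * (a : G)⁻¹) = ρ (a * k * (a : G)⁻¹)⁻¹
    congr 1
    group
  -- the subring of self-adjoint elements
  let R : Subring C := Subring.closure (Set.range fun k => η k + ηi k)
  have hR : ∀ a : ↥A, ∀ r ∈ R, σ a r ∈ R := by
    intro a r hr
    have : R ≤ R.comap (σ a) := Subring.closure_le.mpr (by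
      rintro _ ⟨k, rfl⟩
      rw [SetLike.mem_coe, Subring.mem_comap, map_add, hση, hσηi]
      exact Subring.subset_closure ⟨_, rfl⟩)
    exact this hr
  have hAp : IsPGroup p ↥A := P.2.to_le hA.2.1
  haveI : IsMulCommutative A := hA.1
  have hmove : ∃ a : ↥A, ∃ r ∈ R, σ a r ≠ r := by
    by_contra h
    push Not at h
    obtain ⟨n, hn⟩ := hAp ⟨a₀, ha₀⟩
    have hfix := fixed_of_fixed_add_inv η ηi hinv ?_ (σ ⟨a₀, ha₀⟩)
      (fun k => ⟨_, hση _ k, hσηi _ k⟩) (n := p ^ n) ((hpp.odd_of_ne_two (by omega)).pow) ?_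
      (fun k => h ⟨a₀, ha₀⟩ _ (Subring.subset_closure ⟨k, rfl⟩))
    rotate_left
    · intro j k
      obtain ⟨l, hl, hlH⟩ := hdec _ (mul_mem j.2.1 k.2.1)
      have e1 : ρ l = ρ j * ρ k := by
        have := hρH _ hlH
        rw [map_mul] at this
        rw [← map_mul, ← one_mul (ρ ((j : G) * k)), ← map_one ρ, ← mul_inv_cancel l, map_mul,
          mul_assoc, this, mul_one]
      refine ⟨⟨l, hl⟩, Subtype.ext e1, Subtype.ext ?_⟩
      show ρ l⁻¹ = ρ (j : G)⁻¹ * ρ (k : G)⁻¹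
      have e2 : ρ (j : G)⁻¹ * ρ (k : G)⁻¹ * ρ l = 1 := by
        rw [hρcomm _ (hQinv _ j.2) _ (hQinv _ k.2), e1, ← map_mul, ← map_mul, ← map_mul,
          show (k : G)⁻¹ * (j : G)⁻¹ * ((j : G) * k) = 1 by group, map_one]
      calc ρ l⁻¹ = ρ (j : G)⁻¹ * ρ (k : G)⁻¹ * ρ l * ρ l⁻¹ := by rw [e2, one_mul]
        _ = ρ (j : G)⁻¹ * ρ (k : G)⁻¹ := by
          rw [mul_assoc, ← map_mul ρ l, mul_inv_cancel, map_one, mul_one]
    · intro k
      have : ∀ m f, (⇑(σ ⟨a₀, ha₀⟩))^[m] f = σ (⟨a₀, ha₀⟩ ^ m) f := by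
        intro m
        induction m with
        | zero => intro f; rw [pow_zero, map_one]; rfl
        | succ m ih =>
          intro f
          rw [Function.iterate_succ_apply, ih, pow_succ, map_mul]
          rfl
      rw [this, hn, map_one]
      rfl
    -- `a₀` centralizes `L` modulo `H`
    have hcom : ∀ k ∈ Q, a₀ * k * a₀⁻¹ * k⁻¹ ∈ H := fun k hk => hker (MonoidHom.mem_ker.mpr (by
      have h1 : ρ (a₀ * k * a₀⁻¹) = ρ k := congrArg Subtype.val ((hση _ ⟨k, hk⟩).symm.trans (hfix ⟨k, hk⟩))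
      rw [map_mul, h1, ← map_mul, mul_inv_cancel, map_one]))
    set πH := QuotientGroup.mk' H with hπH
    have hπeq : ∀ g k : G, πH g * πH k = πH k * πH g ↔ g * k * g⁻¹ * k⁻¹ ∈ H := fun g k => by
      rw [← QuotientGroup.eq_one_iff (N := H) (g * k * g⁻¹ * k⁻¹)]
      show _ ↔ πH (g * k * g⁻¹ * k⁻¹) = 1
      rw [map_mul, map_mul, map_mul, map_inv, map_inv, mul_inv_eq_one, mul_inv_eq_iff_eq_mul]
    set D : Subgroup G := (centralizer (πH '' Q)).comap πH ⊓ P with hD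
    have hDmem : ∀ d, d ∈ D ↔ (∀ k ∈ Q, πH d * πH k = πH k * πH d) ∧ d ∈ (P : Subgroup G) := by
      intro d
      rw [hD, mem_inf, mem_comap, mem_centralizer_iff]
      constructor
      · exact fun h => ⟨fun k hk => (h.1 _ ⟨k, hk, rfl⟩).symm, h.2⟩
      · refine fun h => ⟨?_, h.2⟩
        rintro _ ⟨k, hk, rfl⟩
        exact (h.1 k hk).symm
    have hHD : ∀ y ∈ H, y ∈ D := fun y hy => (hDmem y).mpr ⟨fun k _ => by
      rw [show πH y = 1 from (QuotientGroup.eq_one_iff y).mpr hy, one_mul, mul_one], hHP hy⟩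
    have ha₀D : a₀ ∈ D := (hDmem a₀).mpr ⟨fun k hk => (hπeq _ _).mpr (hcom k hk), hA.2.1 ha₀⟩
    have hDn : D.Normal := by
      refine hnormal D (fun g hg => mem_normalizer_iff.mpr ?_) (fun g hg => mem_normalizer_iff.mpr ?_)
      · have key : ∀ g ∈ (P : Subgroup G), ∀ d ∈ D, g * d * g⁻¹ ∈ D := by
          intro g hg d hd
          obtain ⟨hd1, hd2⟩ := (hDmem d).mp hd
          refine (hDmem _).mpr ⟨fun k hk => ?_, mul_mem (mul_mem hg hd2) (inv_mem hg)⟩
          have h1 := hd1 _ (hQconj g⁻¹ k hk)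
          simp only [map_mul, map_inv, inv_inv] at h1 ⊢
          calc πH g * πH d * (πH g)⁻¹ * πH k
              = πH g * (πH d * ((πH g)⁻¹ * πH k * πH g)) * (πH g)⁻¹ := by group
            _ = πH k * (πH g * πH d * (πH g)⁻¹) := by rw [h1]; group
        refine fun d => ⟨key g hg d, fun hd => ?_⟩
        have := key g⁻¹ (inv_mem hg) _ hd
        rwa [show g⁻¹ * (g * d * g⁻¹) * g⁻¹⁻¹ = d by group] at this
      · have key : ∀ g ∈ L, ∀ d ∈ D, g * d * g⁻¹ ∈ D := by
          intro g hg d hd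
          obtain ⟨hd1, -⟩ := (hDmem d).mp hd
          obtain ⟨k, hk, hkg⟩ := hdec g hg
          have hgk : πH g = πH k := (QuotientGroup.eq.mpr hkg).symm
          have : g * d * g⁻¹ * d⁻¹ ∈ H := by
            rw [← hπeq, hgk]
            exact (hd1 k hk).symm
          have := mul_mem (hHD _ this) hd
          rwa [inv_mul_cancel_right] at this
        refine fun d => ⟨key g hg d, fun hd => ?_⟩
        have := key g⁻¹ (inv_mem hg) _ hd
        rwa [show g⁻¹ * (g * d * g⁻¹) * g⁻¹⁻¹ = d by group] at this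
    exact ha₀H (Solvable.le_pCore p hDn (P.2.to_le inf_le_right) ha₀D)
  obtain ⟨b, f, g, h, t, hfR, hbf, hbg, hbh, htfix, ht0, hcl⟩ := exists_deep hp hAp σ R hR hmove
  -- a fixed vector not killed by `t`
  obtain ⟨v, hvW, hv0, hvfix⟩ := exists_fixed_mem hAp hVp (ρ.comp A.subtype)
    (AddMonoidHom.range ((t : AddMonoid.End V) : V →+ V)) ⊥
    (fun a w hw => by
      obtain ⟨u, rfl⟩ := hw
      exact ⟨ρ a u, by
        show (t : AddMonoid.End V) (ρ a u) = ρ a ((t : AddMonoid.End V) u)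
        rw [hσapp, htfix]⟩)
    (fun hle => ht0 (Subtype.ext (AddMonoidHom.ext fun u => AddSubgroup.mem_bot.mp (hle ⟨u, rfl⟩))))
  replace hvfix : ∀ a : ↥A, ρ a v = v := fun a => sub_eq_zero.mp (AddSubgroup.mem_bot.mp (hvfix a))
  have htv : (t : AddMonoid.End V) v ≠ 0 := by
    intro htv
    obtain ⟨u, rfl⟩ := hvW
    refine hv0 (AddSubgroup.mem_bot.mpr ?_)
    have e : t = t ^ (q - 2) * (t * t) := by
      rw [← sq, ← pow_add, Nat.sub_add_cancel hq1, hfrob]
    show (t : AddMonoid.End V) u = 0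
    rw [e]
    show ((t : AddMonoid.End V) ^ (q - 2)) ((t : AddMonoid.End V) ((t : AddMonoid.End V) u)) = 0
    rw [show (t : AddMonoid.End V) ((t : AddMonoid.End V) u) = 0 from htv]
    exact map_zero _
  -- the commutator form
  let β : V → V → G := fun u w => ⁅(σl u : G), (σl w : G)⁆
  have hcZ : ∀ x y : ↥E, ⁅(x : G), (y : G)⁆ ∈ Z := fun x y =>
    hEHZ (commutator_mem_commutator x.2 (hEH y.2))
  have hβ : ∀ x y : ↥E, β (mk x) (mk y) = ⁅(x : G), (y : G)⁆ := by
    intro x y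
    have hl : ∀ x : ↥E, ∃ z ∈ Z, (σl (mk x) : G) = x * z := fun x =>
      ⟨_, (hmk x (σl (mk x))).mp (hσl (mk x)).symm, by group⟩
    obtain ⟨z, hz, hze⟩ := hl x
    obtain ⟨w, hw, hwe⟩ := hl y
    show ⁅(σl (mk x) : G), (σl (mk y) : G)⁆ = _
    rw [hze, hwe, commutatorElement_def, commutatorElement_def]
    calc (x : G) * z * (y * w) * ((x : G) * z)⁻¹ * ((y : G) * w)⁻¹
        = (x : G) * (z * (y * w)) * z⁻¹ * (x : G)⁻¹ * (w⁻¹ * (y : G)⁻¹) := by group
      _ = (x : G) * y * (w * (x : G)⁻¹) * (w⁻¹ * (y : G)⁻¹) := by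
        rw [hZc z hz ((y : G) * w) (mul_mem y.2 (hZE hw))]; group
      _ = (x : G) * y * (x : G)⁻¹ * (y : G)⁻¹ := by rw [hZc w hw _ (inv_mem x.2)]; group
  have hβZ : ∀ u w, β u w ∈ Z := fun u w => hcZ _ _
  have hβl : ∀ u u' w, β (u + u') w = β u w * β u' w := by
    intro u u' w
    conv_lhs => rw [← hσl u, ← hσl u', ← hσl w, ← hmk_add, hβ]
    show ⁅(σl u : G) * σl u', (σl w : G)⁆ = ⁅(σl u : G), (σl w : G)⁆ * ⁅(σl u' : G), (σl w : G)⁆
    have hc := hZc _ (hcZ (σl u') (σl w))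
    rw [show ⁅(σl u : G) * σl u', (σl w : G)⁆ =
      (σl u : G) * ⁅(σl u' : G), (σl w : G)⁆ * (σl u : G)⁻¹ * ⁅(σl u : G), (σl w : G)⁆ by
        simp only [commutatorElement_def]; group]
    rw [← hc _ (σl u).2, mul_inv_cancel_right, hc _ (hZE (hcZ _ _))]
  have hβswap : ∀ u w, β u w = (β w u)⁻¹ := fun u w => (commutatorElement_inv _ _).symm
  have hβr : ∀ u w w', β u (w + w') = β u w * β u w' := by
    intro u w w'
    rw [hβswap u (w + w'), hβl, mul_inv_rev, ← hβswap, ← hβswap]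
    exact hZc _ (hβZ _ _) _ (hZE (hβZ _ _))
  have hβ0 : ∀ u, β 0 u = 1 := fun u => by
    have := hβl 0 0 u
    rwa [add_zero, left_eq_mul] at this
  have hβ0' : ∀ u, β u 0 = 1 := fun u => by rw [hβswap, hβ0, inv_one]
  have hβneg : ∀ u w, β (-u) w = (β u w)⁻¹ := fun u w =>
    eq_inv_of_mul_eq_one_left (by rw [← hβl, neg_add_cancel, hβ0])
  have hβneg' : ∀ u w, β u (-w) = (β u w)⁻¹ := fun u w => by
    rw [hβswap u (-w), hβneg, inv_inv, hβswap u w, inv_inv]
  have hβQ : ∀ k ∈ Q, ∀ u w, β (ρ k u) (ρ k w) = β u w := by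
    intro k hk u w
    conv_lhs => rw [← hσl u, ← hσl w, hρ, hρ, hβ]
    show ⁅k * (σl u : G) * k⁻¹, k * (σl w : G) * k⁻¹⁆ = _
    rw [show ⁅k * (σl u : G) * k⁻¹, k * (σl w : G) * k⁻¹⁆ = k * β u w * k⁻¹ by
      simp only [β, commutatorElement_def]; group, hZQ k hk _ (hβZ u w), mul_inv_cancel_right]
  have hSA : ∀ r ∈ R, ∀ u w, β ((r : AddMonoid.End V) u) w = β u ((r : AddMonoid.End V) w) := by
    intro r hr
    induction hr using Subring.closure_induction with
    | mem r hr =>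
      obtain ⟨k, rfl⟩ := hr
      intro u w
      show β (ρ k u + ρ (k : G)⁻¹ u) w = β u (ρ k w + ρ (k : G)⁻¹ w)
      have h1 : ∀ y : Q, β (ρ y u) w = β u (ρ (y : G)⁻¹ w) := fun y => by
        conv_lhs => rw [show w = ρ y (ρ (y : G)⁻¹ w) from (congrArg (fun F : AddMonoid.End V => F w)
          (show ρ y * ρ (y : G)⁻¹ = 1 by rw [← map_mul, mul_inv_cancel, map_one])).symm]
        exact hβQ _ y.2 _ _
      rw [hβl, hβr, h1 k, h1 ⟨_, hQinv k k.2⟩, inv_inv]
      exact hZc _ (hβZ _ _) _ (hZE (hβZ _ _))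
    | zero =>
      intro u w
      show β 0 w = β u 0
      rw [hβ0, hβ0']
    | one => intro u w; rfl
    | add a b _ _ iha ihb =>
      intro u w
      show β ((a : AddMonoid.End V) u + (b : AddMonoid.End V) u) w =
        β u ((a : AddMonoid.End V) w + (b : AddMonoid.End V) w)
      rw [hβl, hβr, iha, ihb]
    | neg a _ iha =>
      intro u w
      show β (-((a : AddMonoid.End V) u)) w = β u (-((a : AddMonoid.End V) w))
      rw [hβneg, hβneg', iha]
    | mul a b ha hb iha ihb =>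
      intro u w
      show β ((a : AddMonoid.End V) ((b : AddMonoid.End V) u)) w = _
      rw [iha, ihb, mul_comm a b]
      rfl
  have hiso : ∀ r ∈ R, ∀ r' ∈ R,
      β ((r : AddMonoid.End V) v) ((r' : AddMonoid.End V) v) = 1 := by
    intro r hr r' hr'
    rw [hSA r hr]
    show β v (((r * r' : C) : AddMonoid.End V) v) = 1
    set s := r * r'
    have h1 := hSA s (mul_mem hr hr') v v
    rw [hβswap] at h1
    -- an element of odd order equal to its inverse
    have h2 : β v ((s : AddMonoid.End V) v) ^ 2 = 1 := by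
      rw [sq]
      conv_lhs => arg 1; rw [← h1]
      exact inv_mul_cancel _
    obtain ⟨j, hj⟩ := hHp ⟨_, hEH (hZE (hβZ v ((s : AddMonoid.End V) v)))⟩
    refine orderOf_eq_one_iff.mp (Nat.eq_one_of_dvd_coprimes
      (((Nat.coprime_primes Nat.prime_two hpp).mpr (by omega)).pow_right j)
      (orderOf_dvd_of_pow_eq_one h2) (orderOf_dvd_of_pow_eq_one ?_))
    simpa using congrArg Subtype.val hj
  have hCsub : ∀ (a c : C) (u : V), ((a - c : C) : AddMonoid.End V) u =
      (a : AddMonoid.End V) u - (c : AddMonoid.End V) u := fun a c u => rfl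
  have hCadd : ∀ (a c : C) (u : V), ((a + c : C) : AddMonoid.End V) u =
      (a : AddMonoid.End V) u + (c : AddMonoid.End V) u := fun a c u => rfl
  -- Thompson replacement
  set x : ↥E := σl ((f : AddMonoid.End V) v) with hx
  have hxmk : mk x = (f : AddMonoid.End V) v := hσl _
  have hdE : ∀ a : G, ⁅a, (x : G)⁆ ∈ E := fun a => by
    rw [commutatorElement_def]; exact E.mul_mem (hEn.conj_mem x x.2 a) (E.inv_mem x.2)
  have hdmk : ∀ a : ↥A, mk ⟨⁅(a : G), (x : G)⁆, hdE a⟩ = ((σ a f - f : C) : AddMonoid.End V) v := by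
    intro a
    have e : mk (⟨⁅(a : G), (x : G)⁆, hdE a⟩ * x) = ρ a (mk x) := by
      rw [hρ]
      congr 1
      ext
      show ⁅(a : G), (x : G)⁆ * (x : G) = _
      rw [commutatorElement_def, inv_mul_cancel_right]
    rw [hmk_add, hxmk, hσapp, hvfix] at e
    show _ = (σ a f : AddMonoid.End V) v - (f : AddMonoid.End V) v
    rw [← e, add_sub_cancel_right]
  have hcomd : ∀ a ∈ A, ∀ c ∈ A,
      ⁅a, (x : G)⁆ * ⁅c, (x : G)⁆ = ⁅c, (x : G)⁆ * ⁅a, (x : G)⁆ := by
    intro a ha c hc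
    have h1 := hβ ⟨_, hdE a⟩ ⟨_, hdE c⟩
    rw [hdmk ⟨a, ha⟩, hdmk ⟨c, hc⟩, hiso _ (R.sub_mem (hR _ f hfR) hfR) _
      (R.sub_mem (hR _ f hfR) hfR)] at h1
    exact commutatorElement_eq_one_iff_mul_comm.mp h1.symm
  have hrepl := exists_comm_inv_mul_mem hA (hHP (hEH x.2)) hcomd
  set M := closure {y | ∃ a ∈ A, ⁅a, (x : G)⁆ = y}
  have hdM : ∀ a : ↥A, ⁅(a : G), (x : G)⁆ ∈ M := fun a => subset_closure ⟨a, a.2, rfl⟩
  set m : G := ⁅((b * b : ↥A) : G), (x : G)⁆ * ⁅(b : G), (x : G)⁆⁻¹ * ⁅(b : G), (x : G)⁆⁻¹ with hm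
  obtain ⟨a, haA, hay⟩ := hrepl m (mul_mem (mul_mem (hdM _) (inv_mem (hdM b))) (inv_mem (hdM b)))
  set y : ↥E := (⟨⁅a, (x : G)⁆, hdE a⟩ : ↥E)⁻¹ * ((⟨⁅((b * b : ↥A) : G), (x : G)⁆, hdE _⟩ : ↥E) *
    (⟨⁅(b : G), (x : G)⁆, hdE b⟩ : ↥E)⁻¹ * (⟨⁅(b : G), (x : G)⁆, hdE b⟩ : ↥E)⁻¹) with hy
  replace hay : (y : G) ∈ A := hay
  have hmk_inv : ∀ z : ↥E, mk z⁻¹ = -mk z := fun z =>
    eq_neg_of_add_eq_zero_left (by rw [← hmk_add, inv_mul_cancel, hmk0 _ Z.one_mem])
  have hymk : mk y = ((h - (σ ⟨a, haA⟩ f - f) : C) : AddMonoid.End V) v := by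
    rw [hy, hmk_add, hmk_add, hmk_add, hmk_inv, hmk_inv, hdmk ⟨a, haA⟩, hdmk b, hdmk (b * b)]
    have e : σ (b * b) f - f - (σ b f - f) - (σ b f - f) = h := by
      rw [map_mul]
      show σ b (σ b f) - f - (σ b f - f) - (σ b f - f) = h
      rw [hbf, map_add, hbf, hbg]
      ring
    rw [← e]
    simp only [hCsub]
    abel
  obtain ⟨j, hjf, hjg⟩ := hcl ⟨a, haA⟩
  -- `y` is fixed by `b`
  have hyfix : ρ b (mk y) = mk y := by
    rw [hρ]
    congr 1
    ext
    show (b : G) * y * (b : G)⁻¹ = y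
    exact mul_inv_eq_iff_eq_mul.mpr (congrArg Subtype.val (hA.1.is_comm.comm b ⟨y, hay⟩))
  have hjit : σ (b ^ j) g = g + j * h + (j.choose 2 : C) * t := by
    induction j generalizing a with
    | zero => simp
    | succ j _ =>
      clear hjf hjg
      have key : ∀ j : ℕ, σ (b ^ j) g = g + j * h + (j.choose 2 : C) * t := by
        intro j
        induction j with
        | zero => simp
        | succ j ih =>
          rw [pow_succ', map_mul]
          show σ b (σ (b ^ j) g) = _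
          rw [ih, map_add, map_add, map_mul, map_mul, map_natCast, map_natCast, hbg, hbh, htfix b,
            Nat.choose_succ_succ' j 1, Nat.choose_one_right]
          push_cast
          ring
      exact key _
  have h2 : ((t - (j * h + (j.choose 2 : C) * t) : C) : AddMonoid.End V) v = 0 := by
    rw [hymk, hσapp, hvfix] at hyfix
    have e : σ b (h - (σ ⟨a, haA⟩ f - f)) - (h - (σ ⟨a, haA⟩ f - f)) =
        t - (j * h + (j.choose 2 : C) * t) := by
      have hswap : σ b (σ ⟨a, haA⟩ f) = σ ⟨a, haA⟩ (σ b f) := by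
        show (σ b * σ ⟨a, haA⟩) f = (σ ⟨a, haA⟩ * σ b) f
        rw [← map_mul, ← map_mul, mul_comm]
      rw [map_sub, map_sub, hbh, hswap, hbf, map_add, hjg, hjit]
      ring
    rw [← e, hCsub, hyfix]
    exact sub_self _
  -- apply `b` once more
  have h3 : ((j * t : C) : AddMonoid.End V) v = 0 := by
    have h2' := congrArg (ρ b) h2
    rw [map_zero, hσapp, hvfix] at h2'
    have e : (t - (j * h + (j.choose 2 : C) * t)) - σ b (t - (j * h + (j.choose 2 : C) * t)) =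
        j * t := by
      rw [map_sub, map_add, map_mul, map_mul, map_natCast, map_natCast, hbh, htfix b]
      ring
    rw [← e, hCsub, h2, h2', sub_zero]
  have hdiv : ∀ n : ℕ, ((n * t : C) : AddMonoid.End V) v = 0 → p ∣ n := by
    intro n hn
    by_contra hnd
    rw [← nsmul_eq_mul, AddSubmonoidClass.coe_nsmul] at hn
    change n • ((t : AddMonoid.End V) v) = 0 at hn
    have h4 : addOrderOf ((t : AddMonoid.End V) v) ∣ n.gcd p :=
      Nat.dvd_gcd (addOrderOf_dvd_of_nsmul_eq_zero hn) (addOrderOf_dvd_of_nsmul_eq_zero (hVp _))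
    rw [Nat.Coprime.gcd_eq_one ((hpp.coprime_iff_not_dvd.mpr hnd).symm)] at h4
    exact htv (AddMonoid.addOrderOf_eq_one_iff.mp (Nat.dvd_one.mp h4))
  have hjC : (j : C) = 0 := (CharP.cast_eq_zero_iff C p j).mpr (hdiv j h3)
  have hch : (2 : C) * (j.choose 2 : C) = 0 := by
    have : 2 * j.choose 2 = j * (j - 1) := by
      rw [Nat.choose_two_right, Nat.mul_div_cancel' (Nat.even_mul_pred_self j).two_dvd]
    calc (2 : C) * (j.choose 2 : C) = ((2 * j.choose 2 : ℕ) : C) := by push_cast; ring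
      _ = 0 := by rw [this, Nat.cast_mul, hjC, zero_mul]
  have h4 : (((2 : ℕ) * t : C) : AddMonoid.End V) v = 0 := by
    have e : ((2 : ℕ) : C) * t = 2 * (t - (j * h + (j.choose 2 : C) * t)) := by
      rw [hjC]; push_cast; linear_combination t * hch
    rw [e, two_mul, hCadd, h2, add_zero]
  have := Nat.le_of_dvd two_pos (hdiv 2 h4)
  omega

end CfsgLib.ThompsonAuto
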